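/-
Equality of some words in all the letters, checked at ranges of points.
-/
import Cfsg.Agent.Lib.Spor.Fi23.ActF.Data
import Cfsg.Agent.Lib.Spor.TC.Strict
import Cfsg.Agent.Lib.Spor.TC.Steps

namespace CfsgLib.Spor.Fi23

open CfsgLib.Spor.TC

/-- The generators of the centralizer of the transposition. -/
def gensH : List ℕ := [0, 1, 2, 3, 4, 5, 6, 8, 9]

/-- Representatives of the suborbits, as words leading to them. -/
def repWords : List (List ℕ × ℕ) :=
  [([], 2), ([7], 3), ([7, 6, 5, 4, 3, 8, 2, 3, 4, 5, 6, 7], 2)]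

/-- The equations between words. -/
def eqs : List (List ℕ × List ℕ) :=
  [([10, 10], []), (powWord [11] 23, [])] ++ gensH.map (fun x => ([10, x], [x, 10])) ++
    repWords.map fun p => (powWord ([10] ++ (p.1 ++ ([10] ++ p.1.reverse))) p.2, [])

/-- The equations at one point. -/
noncomputable def eqsAt (A : Act) (c : ℕ) : Bool :=
  List.rec (motive := fun _ => Bool) true (fun p _ ih => Nat.beq (A.wactS p.1 c) (A.wactS p.2 c) && ih) eqs

/-- The equations at a range of points. -/
def EqsOK (A : Act) (a b : ℕ) : Prop := ∀ c, a ≤ c → c < b → eqsAt A c = true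

theorem EqsOK.of_check {A : Act} {a b : ℕ} (h : allFromS (eqsAt A) a (Nat.sub b a) = true) : EqsOK A a b := by
  rw [allFromS_eq] at h
  exact fun c h1 h2 => allFrom_spec h c h1 (show c < a + (b - a) by omega)

theorem EqsOK.append {A : Act} {a b c : ℕ} (h1 : EqsOK A a b) (h2 : EqsOK A b c) : EqsOK A a c :=
  fun x ha hc => if h : x < b then h1 x ha h else h2 x (by omega) hc

theorem eqsAt_spec {A : Act} {c : ℕ} (h : eqsAt A c = true) :
    ∀ p ∈ eqs, A.wact p.1 c = A.wact p.2 c := by
  have key : ∀ l : List (List ℕ × List ℕ),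
      List.rec (motive := fun _ => Bool) true (fun p _ ih => Nat.beq (A.wactS p.1 c) (A.wactS p.2 c) && ih) l = true →
        ∀ p ∈ l, A.wact p.1 c = A.wact p.2 c := by
    intro l
    induction l with
    | nil => intro _ p hp; simp at hp
    | cons q l ih =>
      intro hl p hp
      simp only [Bool.and_eq_true] at hl
      rcases List.mem_cons.1 hp with rfl | hp
      · have := Nat.eq_of_beq_eq_true hl.1
        rwa [A.wactS_eq, A.wactS_eq] at this
      · exact ih hl.2 p hp
  exact key eqs h

end CfsgLib.Spor.Fi23
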