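/-
Equality of some words at ranges of points.
-/
import Cfsg.Agent.Lib.Spor.Fi23.Same.Base

namespace CfsgLib.Spor.Fi23

open CfsgLib.Spor.TC

set_option maxRecDepth 100000 in
theorem eqs0 : EqsOK ActF.act 0 440 :=
  EqsOK.of_check (by decide +kernel)

set_option maxRecDepth 100000 in
theorem eqs440 : EqsOK ActF.act 440 880 :=
  EqsOK.of_check (by decide +kernel)

set_option maxRecDepth 100000 in
theorem eqs880 : EqsOK ActF.act 880 1320 :=
  EqsOK.of_check (by decide +kernel)

set_option maxRecDepth 100000 in
theorem eqs1320 : EqsOK ActF.act 1320 1760 :=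
  EqsOK.of_check (by decide +kernel)

set_option maxRecDepth 100000 in
theorem eqs1760 : EqsOK ActF.act 1760 2200 :=
  EqsOK.of_check (by decide +kernel)

set_option maxRecDepth 100000 in
theorem eqs2200 : EqsOK ActF.act 2200 2640 :=
  EqsOK.of_check (by decide +kernel)

end CfsgLib.Spor.Fi23
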