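/-
Equality of some words at ranges of points.
-/
import Cfsg.Agent.Lib.Spor.Fi23.Same.Base

namespace CfsgLib.Spor.Fi23

open CfsgLib.Spor.TC

set_option maxRecDepth 100000 in
theorem eqs2640 : EqsOK ActF.act 2640 3080 :=
  EqsOK.of_check (by decide +kernel)

set_option maxRecDepth 100000 in
theorem eqs3080 : EqsOK ActF.act 3080 3520 :=
  EqsOK.of_check (by decide +kernel)

set_option maxRecDepth 100000 in
theorem eqs3520 : EqsOK ActF.act 3520 3960 :=
  EqsOK.of_check (by decide +kernel)

set_option maxRecDepth 100000 in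
theorem eqs3960 : EqsOK ActF.act 3960 4400 :=
  EqsOK.of_check (by decide +kernel)

set_option maxRecDepth 100000 in
theorem eqs4400 : EqsOK ActF.act 4400 4840 :=
  EqsOK.of_check (by decide +kernel)

set_option maxRecDepth 100000 in
theorem eqs4840 : EqsOK ActF.act 4840 5280 :=
  EqsOK.of_check (by decide +kernel)

end CfsgLib.Spor.Fi23
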