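/-
Equality of some words at ranges of points.
-/
import Cfsg.Agent.Lib.Spor.Fi23.Same.Base

namespace CfsgLib.Spor.Fi23

open CfsgLib.Spor.TC

set_option maxRecDepth 100000 in
theorem eqs26400 : EqsOK ActF.act 26400 26840 :=
  EqsOK.of_check (by decide +kernel)

set_option maxRecDepth 100000 in
theorem eqs26840 : EqsOK ActF.act 26840 27280 :=
  EqsOK.of_check (by decide +kernel)

set_option maxRecDepth 100000 in
theorem eqs27280 : EqsOK ActF.act 27280 27720 :=
  EqsOK.of_check (by decide +kernel)

set_option maxRecDepth 100000 in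
theorem eqs27720 : EqsOK ActF.act 27720 28160 :=
  EqsOK.of_check (by decide +kernel)

set_option maxRecDepth 100000 in
theorem eqs28160 : EqsOK ActF.act 28160 28600 :=
  EqsOK.of_check (by decide +kernel)

set_option maxRecDepth 100000 in
theorem eqs28600 : EqsOK ActF.act 28600 29040 :=
  EqsOK.of_check (by decide +kernel)

end CfsgLib.Spor.Fi23
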