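/-
Equality of some words at ranges of points.
-/
import Cfsg.Agent.Lib.Spor.Fi23.Same.Base

namespace CfsgLib.Spor.Fi23

open CfsgLib.Spor.TC

set_option maxRecDepth 100000 in
theorem eqs29040 : EqsOK ActF.act 29040 29480 :=
  EqsOK.of_check (by decide +kernel)

set_option maxRecDepth 100000 in
theorem eqs29480 : EqsOK ActF.act 29480 29920 :=
  EqsOK.of_check (by decide +kernel)

set_option maxRecDepth 100000 in
theorem eqs29920 : EqsOK ActF.act 29920 30360 :=
  EqsOK.of_check (by decide +kernel)

set_option maxRecDepth 100000 in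
theorem eqs30360 : EqsOK ActF.act 30360 30800 :=
  EqsOK.of_check (by decide +kernel)

set_option maxRecDepth 100000 in
theorem eqs30800 : EqsOK ActF.act 30800 31240 :=
  EqsOK.of_check (by decide +kernel)

set_option maxRecDepth 100000 in
theorem eqs31240 : EqsOK ActF.act 31240 31671 :=
  EqsOK.of_check (by decide +kernel)

end CfsgLib.Spor.Fi23
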