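/-
Equality of some words at ranges of points.
-/
import Cfsg.Agent.Lib.Spor.Fi23.Same.Base

namespace CfsgLib.Spor.Fi23

open CfsgLib.Spor.TC

set_option maxRecDepth 100000 in
theorem eqs5280 : EqsOK ActF.act 5280 5720 :=
  EqsOK.of_check (by decide +kernel)

set_option maxRecDepth 100000 in
theorem eqs5720 : EqsOK ActF.act 5720 6160 :=
  EqsOK.of_check (by decide +kernel)

set_option maxRecDepth 100000 in
theorem eqs6160 : EqsOK ActF.act 6160 6600 :=
  EqsOK.of_check (by decide +kernel)

set_option maxRecDepth 100000 in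
theorem eqs6600 : EqsOK ActF.act 6600 7040 :=
  EqsOK.of_check (by decide +kernel)

set_option maxRecDepth 100000 in
theorem eqs7040 : EqsOK ActF.act 7040 7480 :=
  EqsOK.of_check (by decide +kernel)

set_option maxRecDepth 100000 in
theorem eqs7480 : EqsOK ActF.act 7480 7920 :=
  EqsOK.of_check (by decide +kernel)

end CfsgLib.Spor.Fi23
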