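/-
Equality of some words at ranges of points.
-/
import Cfsg.Agent.Lib.Spor.Fi23.Same.Base

namespace CfsgLib.Spor.Fi23

open CfsgLib.Spor.TC

set_option maxRecDepth 100000 in
theorem eqs10560 : EqsOK ActF.act 10560 11000 :=
  EqsOK.of_check (by decide +kernel)

set_option maxRecDepth 100000 in
theorem eqs11000 : EqsOK ActF.act 11000 11440 :=
  EqsOK.of_check (by decide +kernel)

set_option maxRecDepth 100000 in
theorem eqs11440 : EqsOK ActF.act 11440 11880 :=
  EqsOK.of_check (by decide +kernel)

set_option maxRecDepth 100000 in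
theorem eqs11880 : EqsOK ActF.act 11880 12320 :=
  EqsOK.of_check (by decide +kernel)

set_option maxRecDepth 100000 in
theorem eqs12320 : EqsOK ActF.act 12320 12760 :=
  EqsOK.of_check (by decide +kernel)

set_option maxRecDepth 100000 in
theorem eqs12760 : EqsOK ActF.act 12760 13200 :=
  EqsOK.of_check (by decide +kernel)

end CfsgLib.Spor.Fi23
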