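/-
Equality of some words at ranges of points.
-/
import Cfsg.Agent.Lib.Spor.Fi23.Same.Base

namespace CfsgLib.Spor.Fi23

open CfsgLib.Spor.TC

set_option maxRecDepth 100000 in
theorem eqs13200 : EqsOK ActF.act 13200 13640 :=
  EqsOK.of_check (by decide +kernel)

set_option maxRecDepth 100000 in
theorem eqs13640 : EqsOK ActF.act 13640 14080 :=
  EqsOK.of_check (by decide +kernel)

set_option maxRecDepth 100000 in
theorem eqs14080 : EqsOK ActF.act 14080 14520 :=
  EqsOK.of_check (by decide +kernel)

set_option maxRecDepth 100000 in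
theorem eqs14520 : EqsOK ActF.act 14520 14960 :=
  EqsOK.of_check (by decide +kernel)

set_option maxRecDepth 100000 in
theorem eqs14960 : EqsOK ActF.act 14960 15400 :=
  EqsOK.of_check (by decide +kernel)

set_option maxRecDepth 100000 in
theorem eqs15400 : EqsOK ActF.act 15400 15840 :=
  EqsOK.of_check (by decide +kernel)

end CfsgLib.Spor.Fi23
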