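/-
Equality of some words at ranges of points.
-/
import Cfsg.Agent.Lib.Spor.Fi23.Same.Base

namespace CfsgLib.Spor.Fi23

open CfsgLib.Spor.TC

set_option maxRecDepth 100000 in
theorem eqs18480 : EqsOK ActF.act 18480 18920 :=
  EqsOK.of_check (by decide +kernel)

set_option maxRecDepth 100000 in
theorem eqs18920 : EqsOK ActF.act 18920 19360 :=
  EqsOK.of_check (by decide +kernel)

set_option maxRecDepth 100000 in
theorem eqs19360 : EqsOK ActF.act 19360 19800 :=
  EqsOK.of_check (by decide +kernel)

set_option maxRecDepth 100000 in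
theorem eqs19800 : EqsOK ActF.act 19800 20240 :=
  EqsOK.of_check (by decide +kernel)

set_option maxRecDepth 100000 in
theorem eqs20240 : EqsOK ActF.act 20240 20680 :=
  EqsOK.of_check (by decide +kernel)

set_option maxRecDepth 100000 in
theorem eqs20680 : EqsOK ActF.act 20680 21120 :=
  EqsOK.of_check (by decide +kernel)

end CfsgLib.Spor.Fi23
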