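/-
Equality of some words at ranges of points.
-/
import Cfsg.Agent.Lib.Spor.Fi23.Same.Base

namespace CfsgLib.Spor.Fi23

open CfsgLib.Spor.TC

set_option maxRecDepth 100000 in
theorem eqs23760 : EqsOK ActF.act 23760 24200 :=
  EqsOK.of_check (by decide +kernel)

set_option maxRecDepth 100000 in
theorem eqs24200 : EqsOK ActF.act 24200 24640 :=
  EqsOK.of_check (by decide +kernel)

set_option maxRecDepth 100000 in
theorem eqs24640 : EqsOK ActF.act 24640 25080 :=
  EqsOK.of_check (by decide +kernel)

set_option maxRecDepth 100000 in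
theorem eqs25080 : EqsOK ActF.act 25080 25520 :=
  EqsOK.of_check (by decide +kernel)

set_option maxRecDepth 100000 in
theorem eqs25520 : EqsOK ActF.act 25520 25960 :=
  EqsOK.of_check (by decide +kernel)

set_option maxRecDepth 100000 in
theorem eqs25960 : EqsOK ActF.act 25960 26400 :=
  EqsOK.of_check (by decide +kernel)

end CfsgLib.Spor.Fi23
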