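/-
Equality of some words at ranges of points.
-/
import Cfsg.Agent.Lib.Spor.Fi23.Same.Base

namespace CfsgLib.Spor.Fi23

open CfsgLib.Spor.TC

set_option maxRecDepth 100000 in
theorem eqs21120 : EqsOK ActF.act 21120 21560 :=
  EqsOK.of_check (by decide +kernel)

set_option maxRecDepth 100000 in
theorem eqs21560 : EqsOK ActF.act 21560 22000 :=
  EqsOK.of_check (by decide +kernel)

set_option maxRecDepth 100000 in
theorem eqs22000 : EqsOK ActF.act 22000 22440 :=
  EqsOK.of_check (by decide +kernel)

set_option maxRecDepth 100000 in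
theorem eqs22440 : EqsOK ActF.act 22440 22880 :=
  EqsOK.of_check (by decide +kernel)

set_option maxRecDepth 100000 in
theorem eqs22880 : EqsOK ActF.act 22880 23320 :=
  EqsOK.of_check (by decide +kernel)

set_option maxRecDepth 100000 in
theorem eqs23320 : EqsOK ActF.act 23320 23760 :=
  EqsOK.of_check (by decide +kernel)

end CfsgLib.Spor.Fi23
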